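import Cfsg.Agent.Lib.Helper63.BB.Defs
import Cfsg.Agent.Lib.Helper59.MC.Struct
import Cfsg.Agent.Lib.Helper85.UnifElt
import Cfsg.Agent.S4209
import Cfsg.Agent.S4210
import Cfsg.Agent.S0644
import Cfsg.Agent.S0662

/-!
# S4144 "BB", package [AP]: `p`-th powers of the elements of a two-step centralizer outside
`L 1`, in a group of maximal class of order `p ^ (p+2)`
-/

set_option autoImplicit false

namespace Cfsg.Agent.Lib.Helper77.BB

open Cfsg.Agent.Lib.Helper63.MC Cfsg.Agent.Lib.Helper63.BB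

universe u

/-- `Ω₁` of a regular subgroup `M`, as a subgroup of the ambient group. -/
def omegaSub {X : Type u} [Group X] [Finite X] (p : ℕ) [Fact p.Prime] (M : Subgroup X)
    (hreg : Cfsg.IsRegularPGroup p ↥M) : Subgroup X where
  carrier := {x | x ∈ M ∧ x ^ p = 1}
  one_mem' := ⟨M.one_mem, one_pow p⟩
  mul_mem' := by
    rintro a b ⟨ha, hap⟩ ⟨hb, hbp⟩
    refine ⟨M.mul_mem ha hb, ?_⟩
    have h := (Cfsg.Agent.S4210.result hreg (⟨a, ha⟩ : ↥M) (⟨b⁻¹, M.inv_mem hb⟩ : ↥M) 1).mp (by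
      apply Subtype.ext; simp [hap, hbp])
    have h' := congrArg Subtype.val h
    simpa using h'
  inv_mem' := by
    rintro a ⟨ha, hap⟩
    exact ⟨M.inv_mem ha, by rw [inv_pow, hap, inv_one]⟩

theorem mem_omegaSub {X : Type u} [Group X] [Finite X] (p : ℕ) [Fact p.Prime] (M : Subgroup X)
    (hreg : Cfsg.IsRegularPGroup p ↥M) (x : X) :
    x ∈ omegaSub p M hreg ↔ x ∈ M ∧ x ^ p = 1 := Iff.rfl

/-- The core of [AP], for a subgroup `M ≥ L 1` of index `p` and class `< p`. -/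
theorem apow_core (hRC : PkgRegCount.{u}) {X : Type u} [Group X] [Finite X] {p : ℕ}
    [Fact p.Prime] (hX : Nat.card X = p ^ (p + 2)) (hcl : Group.nilpotencyClass X = p + 1)
    (hPS : PowStr p (p + 2) X) (M : Subgroup X) (hL1M : L X 1 ≤ M)
    (hMcard : Nat.card M = p ^ (p + 1)) (hMlcs : M.lowerCentralSeries (p - 1) = ⊥) :
    ∀ m ∈ M, m ∉ L X 1 → m ^ p ∈ L X (p - 1) ∧ m ^ p ∉ L X p := by
  have hp : p.Prime := Fact.out
  have hp2 : 2 ≤ p := hp.two_le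
  have hcl' : Group.nilpotencyClass X = p + 2 - 1 := by rw [hcl]; omega
  obtain ⟨hcard, -⟩ := Cfsg.Agent.Lib.Helper59.MC.pkgStruct X p (p + 2) (by omega) hX hcl'
  have hc : ∀ i, 1 ≤ i → i ≤ p + 1 → Nat.card (L X i) = p ^ (p + 1 - i) := by
    intro i h1 h2
    rw [hcard i h1 (by omega)]
    congr 1
  have hLbot : L X (p + 1) = ⊥ :=
    Subgroup.eq_bot_of_card_eq _ (by rw [hc (p + 1) (by omega) le_rfl]; simp)
  have hanti : ∀ {i j : ℕ}, i ≤ j → L X j ≤ L X i :=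
    fun h => Cfsg.Agent.Lib.Helper85.UnifElt.L_anti h
  have hMn : M.Normal := Cfsg.Agent.Lib.Helper85.UnifElt.normal_of_L1_le hL1M
  have hpM : IsPGroup p ↥M := IsPGroup.of_card hMcard
  have hlcs : (⊤ : Subgroup ↥M).lowerCentralSeries (p - 1) = ⊥ := by
    have h2 := Subgroup.top_subtype_lowerCentralSeries M (p - 1)
    rw [hMlcs] at h2
    exact (Subgroup.map_eq_bot_iff_of_injective _ M.subtype_injective).mp h2
  have hreg : Cfsg.IsRegularPGroup p ↥M := Cfsg.Agent.S4209.result hpM hlcs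
  obtain ⟨hPS1, hPS2⟩ := hPS
  have hpowL2 : ∀ x ∈ L X 2, x ^ p = 1 := by
    intro x hx
    have h := hPS1 2 (by omega) x hx
    have e : 2 + p - 1 = p + 1 := by omega
    rw [e, hLbot] at h
    exact Subgroup.mem_bot.mp h
  have hpowL1 : ∀ x ∈ L X 1, x ^ p ∈ L X p := by
    intro x hx
    have h := hPS1 1 le_rfl x hx
    have e : 1 + p - 1 = p := by omega
    rwa [e] at h
  have hpowL1' : ∀ x ∈ L X 1, x ∉ L X 2 → x ^ p ≠ 1 := by
    intro x hx hx2 h1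
    have h := hPS2 1 le_rfl (by omega) x hx hx2
    apply h
    rw [h1]; exact one_mem _
  obtain ⟨x₀, hx₀1, hx₀2⟩ : ∃ x ∈ L X 1, x ∉ L X 2 := by
    by_contra hcon
    push Not at hcon
    have hle : L X 1 ≤ L X 2 := hcon
    have h1 := Subgroup.card_le_of_le hle
    rw [hc 1 le_rfl (by omega), hc 2 (by omega) (by omega)] at h1
    have := (Nat.pow_le_pow_iff_right hp.one_lt).mp h1
    omega
  -- `Ω₁(M) = L 2`
  obtain ⟨Ω, hΩdef⟩ : ∃ Ω : Subgroup X, Ω = omegaSub p M hreg := ⟨_, rfl⟩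
  have hΩmem : ∀ x : X, x ∈ Ω ↔ x ∈ M ∧ x ^ p = 1 := fun x => by rw [hΩdef]; exact Iff.rfl
  have hΩM : Ω ≤ M := fun x hx => ((hΩmem x).mp hx).1
  have hΩn : Ω.Normal := by
    constructor
    intro x hx g
    obtain ⟨hxM, hxp⟩ := (hΩmem x).mp hx
    exact (hΩmem _).mpr ⟨hMn.conj_mem x hxM g, by rw [conj_pow, hxp]; group⟩
  have hL2Ω : L X 2 ≤ Ω := fun x hx =>
    (hΩmem x).mpr ⟨hL1M (hanti (by omega) hx), hpowL2 x hx⟩
  have hL1Ω : ¬ L X 1 ≤ Ω := fun h => hpowL1' x₀ hx₀1 hx₀2 ((hΩmem x₀).mp (h hx₀1)).2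
  have hΩL2 : Ω = L X 2 := by
    obtain ⟨a, ha, hca⟩ := (Nat.dvd_prime_pow hp).1 (hMcard ▸ Subgroup.card_dvd_of_le hΩM)
    have ha' : a ≤ p := by
      by_contra hcon
      have hap : a = p + 1 := by omega
      rw [hap] at hca
      have hΩeq : Ω = M := Subgroup.eq_of_le_of_card_ge hΩM (by rw [hca, hMcard])
      exact hL1Ω (hΩeq ▸ hL1M)
    have hidx : Ω.index = p ^ (p + 2 - a) := by
      have h := Ω.card_mul_index
      rw [hca, hX] at h
      have e : p ^ (p + 2) = p ^ a * p ^ (p + 2 - a) := by rw [← pow_add]; congr 1; omega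
      rw [e] at h
      exact Nat.eq_of_mul_eq_mul_left (pow_pos hp.pos a) h
    have h662 := (Cfsg.Agent.S0662.result (p + 2) hX hcl' (by omega)).1 Ω (p + 2 - a) (by omega)
      hidx
    by_cases hr : p + 2 - a - 1 ≤ 1
    · exfalso
      have e : p + 2 - a - 1 = 1 := by omega
      rw [e] at h662
      exact hL1Ω h662.ge
    · apply le_antisymm _ hL2Ω
      rw [h662]; exact hanti (by omega)
  have hΩcard : Nat.card Ω = p ^ (p - 1) := by
    rw [hΩL2, hc 2 (by omega) (by omega)]; congr 1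
  -- counting `p`-th powers
  have hrc := hRC ↥M p hreg
  have e1 : Nat.card {m : ↥M // m ^ p = 1} = Nat.card Ω := by
    apply Nat.card_congr
    exact
      { toFun := fun m => ⟨m.1.1, (hΩmem _).mpr ⟨m.1.2, by
          have := congrArg Subtype.val m.2; simpa using this⟩⟩
        invFun := fun x => ⟨⟨x.1, ((hΩmem _).mp x.2).1⟩,
          Subtype.ext (by simpa using ((hΩmem _).mp x.2).2)⟩
        left_inv := fun m => rfl
        right_inv := fun x => rfl }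
  rw [e1, hΩcard, hMcard] at hrc
  have hpowcard : Nat.card {y : ↥M // ∃ m : ↥M, y = m ^ p} = p ^ 2 := by
    have e : p ^ (p + 1) = p ^ (p - 1) * p ^ 2 := by rw [← pow_add]; congr 1; omega
    rw [e] at hrc
    exact Nat.eq_of_mul_eq_mul_left (pow_pos hp.pos _) hrc
  have h644 := (Cfsg.Agent.S0644.result hreg (⊤ : Subgroup ↥M) 1).1
  obtain ⟨PM, hPMdef⟩ : ∃ PM : Subgroup ↥M, PM = Cfsg.powerClosure p 1 (⊤ : Subgroup ↥M) :=
    ⟨_, rfl⟩
  rw [← hPMdef] at h644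
  have hmemPM : ∀ y : ↥M, y ∈ PM ↔ ∃ m : ↥M, y = m ^ p := by
    intro y
    have h1 : y ∈ {y : ↥M | ∃ x ∈ (⊤ : Subgroup ↥M), y = x ^ (p ^ 1)} ↔ y ∈ (PM : Set ↥M) := by
      rw [h644]
    rw [← SetLike.mem_coe, ← h1]
    simp
  obtain ⟨PX, hPXdef⟩ : ∃ PX : Subgroup X, PX = PM.map M.subtype := ⟨_, rfl⟩
  have hmemPX : ∀ y : X, y ∈ PX ↔ ∃ m ∈ M, y = m ^ p := by
    intro y
    rw [hPXdef]
    constructor
    · rintro ⟨z, hz, rfl⟩
      obtain ⟨m, rfl⟩ := (hmemPM z).mp hz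
      exact ⟨m.1, m.2, by simp⟩
    · rintro ⟨m, hm, rfl⟩
      exact ⟨⟨m, hm⟩ ^ p, (hmemPM _).mpr ⟨_, rfl⟩, by simp⟩
  have hPXn : PX.Normal := by
    constructor
    intro y hy g
    obtain ⟨m, hm, rfl⟩ := (hmemPX y).mp hy
    exact (hmemPX _).mpr ⟨g * m * g⁻¹, hMn.conj_mem m hm g, by rw [conj_pow]⟩
  have hPXcard : Nat.card PX = p ^ 2 := by
    rw [← hpowcard, hPXdef, Subgroup.card_map_of_injective M.subtype_injective]
    exact Nat.card_congr (Equiv.subtypeEquivRight hmemPM)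
  have hPXL : PX = L X (p - 1) := by
    have hidx : PX.index = p ^ p := by
      have h := PX.card_mul_index
      rw [hPXcard, hX] at h
      have e : p ^ (p + 2) = p ^ 2 * p ^ p := by rw [← pow_add]; congr 1; omega
      rw [e] at h
      exact Nat.eq_of_mul_eq_mul_left (pow_pos hp.pos 2) h
    exact (Cfsg.Agent.S0662.result (p + 2) hX hcl' (by omega)).1 PX p hp2 hidx
  intro m hm hmL
  have hmp : m ^ p ∈ L X (p - 1) := by rw [← hPXL]; exact (hmemPX _).mpr ⟨m, hm, rfl⟩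
  refine ⟨hmp, ?_⟩
  intro hmLp
  have hLp : Nat.card (L X p) = p := by rw [hc p (by omega) (by omega)]; simp
  have hx₀p : x₀ ^ p ∈ L X p := hpowL1 x₀ hx₀1
  have hx₀ne : x₀ ^ p ≠ 1 := hpowL1' x₀ hx₀1 hx₀2
  have htop := zpowers_eq_top_of_prime_card (G := ↥(L X p)) hLp (g := ⟨x₀ ^ p, hx₀p⟩) (by
    intro h; exact hx₀ne (congrArg Subtype.val h))
  have hmem : (⟨m ^ p, hmLp⟩ : ↥(L X p)) ∈ Subgroup.zpowers (⟨x₀ ^ p, hx₀p⟩ : ↥(L X p)) := by
    rw [htop]; trivial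
  obtain ⟨k, hk⟩ := Subgroup.mem_zpowers_iff.mp hmem
  have hk' : (x₀ ^ p) ^ k = m ^ p := by
    have := congrArg Subtype.val hk
    simpa using this
  have hxk : (x₀ ^ k) ^ p = m ^ p := by
    calc (x₀ ^ k) ^ p = x₀ ^ (k * (p : ℤ)) := by rw [zpow_mul, zpow_natCast]
      _ = x₀ ^ ((p : ℤ) * k) := by rw [mul_comm]
      _ = (x₀ ^ p) ^ k := by rw [zpow_mul, zpow_natCast]
      _ = m ^ p := hk'
  have hx₀kM : x₀ ^ k ∈ M := hL1M (Subgroup.zpow_mem _ hx₀1 k)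
  have h := (Cfsg.Agent.S4210.result hreg (⟨m, hm⟩ : ↥M) (⟨x₀ ^ k, hx₀kM⟩ : ↥M) 1).mp (by
    apply Subtype.ext; simp [hxk])
  have h' : (m * (x₀ ^ k)⁻¹) ^ p = 1 := by
    have := congrArg Subtype.val h
    simpa using this
  have hΩm : m * (x₀ ^ k)⁻¹ ∈ Ω := (hΩmem _).mpr ⟨M.mul_mem hm (M.inv_mem hx₀kM), h'⟩
  rw [hΩL2] at hΩm
  apply hmL
  have e : m = (m * (x₀ ^ k)⁻¹) * x₀ ^ k := by group
  rw [e]
  exact Subgroup.mul_mem _ (hanti (by omega) hΩm) (Subgroup.zpow_mem _ hx₀1 k)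

/-- **[AP]** -/
theorem pkgAPow_of (hKB : PkgKBasic.{u}) (hCLK : PkgClassK.{u}) (hRC : PkgRegCount.{u}) :
    PkgAPow.{u} := by
  intro X _ _ p _ hX hcl hPS w hw1 hwp m hmK hmL
  have hcl' : Group.nilpotencyClass X = p + 2 - 1 := by rw [hcl]; omega
  have hp2 : 2 ≤ p := (Fact.out : p.Prime).two_le
  obtain ⟨hL1K, -, hKcard⟩ := hKB X p (p + 2) (by omega) hX hcl' w hw1 (by omega)
  have hKcard' : Nat.card (K X w) = p ^ (p + 1) := by rw [hKcard]; congr 1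
  exact apow_core hRC hX hcl hPS (K X w) hL1K hKcard' (hCLK X p hX hcl w hw1 hwp) m hmK hmL

end Cfsg.Agent.Lib.Helper77.BB
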